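import Groth.Agent.Lib.CMReg.Resolution
import Groth.Agent.Lib.K0Sub.RankNilp
import Groth.Agent.Lib.ProjCohom.Corollaries
import Groth.Agent.Lib.Euler.Basic
import Mathlib.LinearAlgebra.Matrix.Block
import Mathlib.LinearAlgebra.Matrix.ToLin
import Mathlib.LinearAlgebra.Matrix.NonsingularInverse

/-! # The Grothendieck group of coherent sheaves on projective space -/

set_option autoImplicit false
set_option maxHeartbeats 1000000
set_option backward.isDefEq.respectTransparency false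
set_option linter.style.haveILetI false
universe u

open CategoryTheory CategoryTheory.Limits AlgebraicGeometry GrothLib.CMReg

noncomputable section

namespace GrothLib.K0Pn22

variable {n : ℕ} {k : Type u} [Field k]

local notation "PP" => CohB1.ProjSpace n k
local notation "cl" => KZero.clSub (fun M : (CohB1.ProjSpace n k).Modules => Coh.IsCoh M)

theorem isNoetherian_pn : AlgebraicGeometry.IsNoetherian (CohB1.ProjSpace n k) :=
  Euler.isNoetherian_of_proper (X := CohB1.ProjSpace n k) k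

theorem isCoh_twist (s : ℤ) : Coh.IsCoh (Twist.twistProjSpace n k s) :=
  Euler.isCoh_of_isFinLocFree (Euler.isFinLocFree_of_isInvertible (isInvertible_twist s))

/-- Classes of sums of twists. -/
theorem cl_sumTwist (b : ℕ) (s : ℤ) : cl (sumTwist n k b s) = b • cl (Twist.twistProjSpace n k s) := by
  haveI := isNoetherian_pn (n := n) (k := k)
  obtain ⟨e1⟩ := nonempty_Ft_freeMod (n := n) (k := k) b s
  let u : ((DCoh.tensorBi (X := CohB1.ProjSpace n k)).obj (Twist.twistProjSpace n k s)).obj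
      (FlatMod.freeMod (CohB1.ProjSpace n k) b) ≅ sumTwist n k b s :=
    ((OX.tensorBraiding (X := CohB1.ProjSpace n k)).app _).app _ ≪≫ e1
  rw [← K0Sub.clSub_coh_iso u]
  exact K0Sub.clSub_tensor_freeMod (isCoh_twist s) b

/-- The span of the twists `O(-m), …, O(-m-d)`. -/
def window (m : ℤ) (d : ℕ) : AddSubgroup (KZero.K0sub (fun M : (CohB1.ProjSpace n k).Modules => Coh.IsCoh M)) :=
  AddSubgroup.closure (Set.range fun j : Fin (d + 1) => cl (Twist.twistProjSpace n k (-(m + (j : ℤ)))))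

theorem window_succ_le (m : ℤ) (d : ℕ) : window (n := n) (k := k) (m + 1) d ≤ window m (d + 1) := by
  refine (AddSubgroup.closure_le _).2 ?_
  rintro _ ⟨j, rfl⟩
  refine AddSubgroup.subset_closure ⟨j.succ, ?_⟩
  simp only [Fin.val_succ]
  congr 2
  push_cast
  ring

theorem cl_twist_mem (m : ℤ) (d : ℕ) : cl (Twist.twistProjSpace n k (-m)) ∈ window (n := n) (k := k) m d :=
  AddSubgroup.subset_closure ⟨0, by simp⟩

theorem cl_mem_window_of_regular : ∀ (d j : ℕ), j + d = n →
    ∀ (F : (CohB1.ProjSpace n k).Modules), Coh.IsCoh F → ∀ m : ℤ, Curv2.IsMRegular k n F m →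
      (∀ i, i < j → Subsingleton (Coh.HH _ (Ft F (m - 1 - i)) i)) → cl F ∈ window (n := n) (k := k) m d := by
  intro d
  induction d with
  | zero =>
    intro j hj F hF m hreg hC
    obtain ⟨b, ⟨e⟩⟩ := isIso_linear_step hF m hreg fun i hi => hC i (by omega)
    rw [← K0Sub.clSub_coh_iso e, cl_sumTwist]
    exact AddSubgroup.nsmul_mem _ (cl_twist_mem m 0) b
  | succ d ih =>
    intro j hj F hF m hreg hC
    obtain ⟨b, φ, hφ, hK, hKreg, hlow⟩ := exists_linear_step hF m hreg
    have h : cl (sumTwist n k b (-m)) = cl (kernel φ) + cl F :=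
      K0Sub.clSub_add (P := fun M : (CohB1.ProjSpace n k).Modules => Coh.IsCoh M) (K0Sub.shortExact_kernel φ) hK
        (isCoh_sumTwist b (-m)) hF
    rw [eq_sub_of_add_eq' h.symm, cl_sumTwist]
    exact AddSubgroup.sub_mem _ (AddSubgroup.nsmul_mem _ (cl_twist_mem m (d + 1)) b)
      (window_succ_le m d (ih (j + 1) (by omega) _ hK (m + 1) hKreg (hlow j (by omega) hC)))

theorem cl_mem_window {F : (CohB1.ProjSpace n k).Modules} (hF : Coh.IsCoh F) (m : ℤ)
    (hreg : Curv2.IsMRegular k n F m) : cl F ∈ window (n := n) (k := k) m n :=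
  cl_mem_window_of_regular n 0 (zero_add n) F hF m hreg fun i hi => absurd hi (Nat.not_lt_zero i)

theorem regular_mono {F : (CohB1.ProjSpace n k).Modules} (hF : Coh.IsCoh F) {m m' : ℤ}
    (h : Curv2.IsMRegular k n F m) (hm : m ≤ m') : Curv2.IsMRegular k n F m' :=
  fun i hi _ => propagate hF m h i _ hi (by omega)

theorem twist_regular (a : ℤ) {m : ℤ} (hm : a ≤ m) :
    Curv2.IsMRegular k n (Twist.twistProjSpace n k (-a)) m := by
  refine regular_mono (isCoh_twist _) (m := a) (fun i hi hin => ?_) hm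
  obtain ⟨e⟩ := nonempty_twist_add (n := n) (k := k) (a := -a) (b := a - i) (c := -(i : ℤ)) (by ring)
  exact subsingleton_of_iso e.symm (subsingleton_HH_twist n hi le_rfl)

/-- The Euler characteristic of a twist in the range `-n ≤ t`. -/
theorem euler_twist (t : ℤ) (ht : -(n : ℤ) ≤ t) :
    Curv2.euler k (CohB1.ProjSpace n k) (Twist.twistProjSpace n k t) =
      if 0 ≤ t then ((n + t.toNat).choose t.toNat : ℤ) else 0 := by
  have hz : ∀ q, ¬ (q = 0 ∧ 0 ≤ t) →
      Subsingleton (Coh.HH (CohB1.ProjSpace n k) (Twist.twistProjSpace n k t) q) := fun q h =>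
    ProjCohom.subsingleton_HH h (fun h' => by omega)
  rw [Euler.euler_eq_sum k _ (N := 1) (fun q hq => hz q (fun h => by omega)), Finset.sum_range_one, pow_zero, one_mul]
  split_ifs with h
  · lift t to ℕ using h
    obtain ⟨e⟩ := ProjCohom.nonempty_HH_zero (n := n) (R := k) t
    rw [e.finrank_eq, ProjCohom.finrank_forms, Int.toNat_natCast]
  · haveI := hz 0 (fun h' => h h'.2)
    simp [Module.finrank_zero_of_subsingleton]

/-- The matrix of Euler characteristics of twists. -/
def eulerMat (n : ℕ) (k : Type u) [Field k] : Matrix (Fin (n + 1)) (Fin (n + 1)) ℤ :=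
  fun d i => Curv2.euler k (CohB1.ProjSpace n k) (Twist.twistProjSpace n k ((d : ℤ) - (i : ℤ)))

theorem det_eulerMat : (eulerMat n k).det = 1 := by
  have ht : ∀ d i : Fin (n + 1), -(n : ℤ) ≤ (d : ℤ) - (i : ℤ) := fun d i => by have := i.2; omega
  rw [Matrix.det_of_lowerTriangular (eulerMat n k) (fun d i hdi => ?_), Finset.prod_eq_one fun d _ => ?_]
  · simp [eulerMat, euler_twist (n := n) (k := k) 0 (by omega)]
  · have hdi' : d < i := OrderDual.toDual_lt_toDual.mp hdi
    rw [eulerMat, euler_twist _ (ht d i), if_neg (by have : (d : ℕ) < i := hdi'; omega)]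

/-- `O(-i)`, `i ≤ n`, are a basis as soon as a pairing with `ι` coordinates detects them. -/
theorem bijective_of_pairing {G : Type*} [AddCommGroup G] {ι : Type} [Fintype ι]
    (φ : G →+ (ι → ℤ)) (v : ι → G) (w : ℤ → ι → G)
    (hbij : Function.Bijective fun a : ι → ℤ => φ (∑ i, a i • v i))
    (hgen : ∀ x : G, ∃ m : ℤ, x ∈ AddSubgroup.closure (Set.range (w m)) ∧
      ∀ i, v i ∈ AddSubgroup.closure (Set.range (w m))) :
    Function.Bijective fun a : ι → ℤ => ∑ i, a i • v i := by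
  classical
  refine ⟨fun a b h => hbij.1 (congrArg φ h), fun x => ?_⟩
  obtain ⟨m, hx, hi⟩ := hgen x
  let g : (ι → ℤ) →ₗ[ℤ] G := Fintype.linearCombination ℤ (w m)
  have hw : ∀ y ∈ AddSubgroup.closure (Set.range (w m)), ∃ a, g a = y := fun y hy => by
    induction hy using AddSubgroup.closure_induction with
    | mem z hz =>
      obtain ⟨j, rfl⟩ := hz
      exact ⟨Pi.single j 1, by simp [g, Fintype.linearCombination_apply_single]⟩
    | zero => exact ⟨0, map_zero g⟩
    | add y z _ _ hy hz =>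
      obtain ⟨a, rfl⟩ := hy
      obtain ⟨b, rfl⟩ := hz
      exact ⟨a + b, map_add g a b⟩
    | neg y _ hy =>
      obtain ⟨a, rfl⟩ := hy
      exact ⟨-a, map_neg g a⟩
  choose A hA using fun i => hw _ (hi i)
  let T : (ι → ℤ) →ₗ[ℤ] (ι → ℤ) := Fintype.linearCombination ℤ A
  have hT : ∀ a, g (T a) = ∑ i, a i • v i := fun a => by
    simp only [T, Fintype.linearCombination_apply, map_sum, map_zsmul, hA]
  have hgs : Function.Surjective (φ.toIntLinearMap ∘ₗ g) := fun z => by
    obtain ⟨a, ha⟩ := hbij.2 z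
    exact ⟨T a, (congrArg φ (hT a)).trans ha⟩
  have hgi := OrzechProperty.injective_of_surjective_endomorphism _ hgs
  obtain ⟨b, hb⟩ := hw x hx
  obtain ⟨a, ha⟩ := hbij.2 (φ (g b))
  refine ⟨a, ?_⟩
  show ∑ i, a i • v i = x
  rw [← hT a, ← hb]
  exact congrArg g (hgi ((congrArg φ (hT a)).trans ha))

theorem euler_Ft_additive (t : ℤ) (S : ShortComplex (CohB1.ProjSpace n k).Modules) (hS : S.ShortExact)
    (h₁ : Coh.IsCoh S.X₁) (h₂ : Coh.IsCoh S.X₂) (h₃ : Coh.IsCoh S.X₃) :
    Curv2.euler k (CohB1.ProjSpace n k) ((ftFun (n := n) (k := k) t).obj S.X₂) =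
      Curv2.euler k (CohB1.ProjSpace n k) ((ftFun (n := n) (k := k) t).obj S.X₁) +
        Curv2.euler k (CohB1.ProjSpace n k) ((ftFun (n := n) (k := k) t).obj S.X₃) := by
  have c₁ : Coh.IsCoh ((ftFun (n := n) (k := k) t).obj S.X₁) := isCoh_Ft h₁ _
  have c₂ : Coh.IsCoh ((ftFun (n := n) (k := k) t).obj S.X₂) := isCoh_Ft h₂ _
  have c₃ : Coh.IsCoh ((ftFun (n := n) (k := k) t).obj S.X₃) := isCoh_Ft h₃ _
  have := Euler.euler_additive (k := k) (S := S.map (ftFun (n := n) (k := k) t)) (ft_shortExact hS t) c₁ c₂ c₃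
  exact this

theorem exists_euler_hom : ∃ φ : KZero.K0sub (fun M : (CohB1.ProjSpace n k).Modules => Coh.IsCoh M) →+ (Fin (n + 1) → ℤ),
    ∀ (F : (CohB1.ProjSpace n k).Modules), Coh.IsCoh F → ∀ d : Fin (n + 1),
      φ (cl F) d = Curv2.euler k (CohB1.ProjSpace n k) ((ftFun (n := n) (k := k) (d : ℤ)).obj F) := by
  obtain ⟨φ, hφ⟩ := K0Sub.exists_lift (P := fun M : (CohB1.ProjSpace n k).Modules => Coh.IsCoh M)
    (fun F => fun d : Fin (n + 1) => Curv2.euler k (CohB1.ProjSpace n k) ((ftFun (n := n) (k := k) (d : ℤ)).obj F))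
    fun S hS h₁ h₂ h₃ => funext fun d => euler_Ft_additive (d : ℤ) S hS h₁ h₂ h₃
  exact ⟨φ, fun F hF d => congrFun (hφ F hF) d⟩

theorem euler_Ft_twist (a b c : ℤ) (h : a + b = c) :
    Curv2.euler k (CohB1.ProjSpace n k) ((ftFun (n := n) (k := k) b).obj (Twist.twistProjSpace n k a)) =
      Curv2.euler k (CohB1.ProjSpace n k) (Twist.twistProjSpace n k c) := by
  obtain ⟨e⟩ := nonempty_twist_add (n := n) (k := k) h
  exact Euler.euler_of_iso k e

theorem cl_twists_mem (m : ℤ) (hm : (n : ℤ) ≤ m) (i : Fin (n + 1)) :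
    cl (Twist.twistProjSpace n k (-((i : ℕ) : ℤ))) ∈ window (n := n) (k := k) m n :=
  cl_mem_window (isCoh_twist _) m (twist_regular (n := n) (k := k) _ (by have := i.2; omega))

theorem exists_window (x : KZero.K0sub (fun M : (CohB1.ProjSpace n k).Modules => Coh.IsCoh M)) :
    ∃ m₀ : ℤ, ∀ m, m₀ ≤ m → x ∈ window (n := n) (k := k) m n := by
  obtain ⟨y, rfl⟩ := QuotientAddGroup.mk_surjective x
  induction y using FreeAbelianGroup.induction_on with
  | zero => exact ⟨0, fun m _ => zero_mem _⟩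
  | of F =>
    obtain ⟨F, hF⟩ := F
    obtain ⟨m₀, hm₀⟩ := exists_regular hF
    refine ⟨m₀, fun m hm => ?_⟩
    rw [← K0Sub.clSub_eq_mk (P := fun M : (CohB1.ProjSpace n k).Modules => Coh.IsCoh M) hF]
    exact cl_mem_window hF m (regular_mono hF hm₀ hm)
  | neg F hF =>
    obtain ⟨m₀, h⟩ := hF
    exact ⟨m₀, fun m hm => neg_mem (h m hm)⟩
  | add a b ha hb =>
    obtain ⟨m₁, h₁⟩ := ha
    obtain ⟨m₂, h₂⟩ := hb
    exact ⟨max m₁ m₂, fun m hm => add_mem (h₁ m (le_trans (le_max_left _ _) hm)) (h₂ m (le_trans (le_max_right _ _) hm))⟩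

theorem mulVec_of_pairing {G : Type*} [AddCommGroup G] {ι : Type} [Fintype ι] [DecidableEq ι]
    (φ : G →+ (ι → ℤ)) (v : ι → G) (M : Matrix ι ι ℤ) (hv : ∀ i d, φ (v i) d = M d i) (hM : IsUnit M.det) :
    Function.Bijective fun a : ι → ℤ => φ (∑ i, a i • v i) := by
  have hf : (fun a : ι → ℤ => φ (∑ i, a i • v i)) = Matrix.mulVec M := funext fun a => funext fun d => by
    rw [map_sum, Finset.sum_apply]
    refine Finset.sum_congr rfl fun i _ => ?_
    rw [map_zsmul, Pi.smul_apply, hv, smul_eq_mul]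
    exact mul_comm _ _
  rw [hf]
  refine Function.bijective_iff_has_inverse.2 ⟨Matrix.mulVec M⁻¹, fun a => ?_, fun a => ?_⟩
  · rw [Matrix.mulVec_mulVec, Matrix.nonsing_inv_mul M hM, Matrix.one_mulVec]
  · rw [Matrix.mulVec_mulVec, Matrix.mul_nonsing_inv M hM, Matrix.one_mulVec]

theorem isUnit_det_eulerMat : IsUnit (eulerMat n k).det := by rw [det_eulerMat]; exact isUnit_one

theorem exists_window_both (x : KZero.K0sub (fun M : (CohB1.ProjSpace n k).Modules => Coh.IsCoh M)) :
    ∃ m : ℤ, x ∈ window (n := n) (k := k) m n ∧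
      ∀ i : Fin (n + 1), cl (Twist.twistProjSpace n k (-((i : ℕ) : ℤ))) ∈ window (n := n) (k := k) m n := by
  obtain ⟨m₀, h⟩ := exists_window x
  exact ⟨max m₀ n, h _ (le_max_left _ _), fun i => cl_twists_mem _ (le_max_right _ _) i⟩

/-- The classes `[O], [O(-1)], …, [O(-n)]` form a basis. -/
theorem bijective_twists :
    Function.Bijective (fun a : Fin (n + 1) → ℤ =>
      ∑ i : Fin (n + 1), a i • cl (Twist.twistProjSpace n k (-((i : ℕ) : ℤ)))) := by
  obtain ⟨φ, hφ⟩ := exists_euler_hom (n := n) (k := k)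
  have hv : ∀ i d : Fin (n + 1), φ (cl (Twist.twistProjSpace n k (-((i : ℕ) : ℤ)))) d = eulerMat n k d i :=
    fun i d => (hφ _ (isCoh_twist _) d).trans (euler_Ft_twist _ _ _ (neg_add_eq_sub _ _))
  exact bijective_of_pairing φ (fun i : Fin (n + 1) => cl (Twist.twistProjSpace n k (-((i : ℕ) : ℤ))))
    (fun m (j : Fin (n + 1)) => cl (Twist.twistProjSpace n k (-(m + (j : ℤ)))))
    (mulVec_of_pairing φ (fun i : Fin (n + 1) => cl (Twist.twistProjSpace n k (-((i : ℕ) : ℤ))))
      (eulerMat n k) hv (isUnit_det_eulerMat (n := n) (k := k))) (exists_window_both (n := n) (k := k))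

end GrothLib.K0Pn22
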